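import Groth.Agent.Lib.ModFlat.Basic
import Groth.Agent.Lib.SheafCoh.TensorAdj
import Groth.Agent.Lib.SheafCoh.ModGroth
import Mathlib.CategoryTheory.Limits.Yoneda
import Mathlib.CategoryTheory.Adjunction.Mates
import Mathlib.Algebra.Category.ModuleCat.Sheaf.Quasicoherent

/-!
# Internal homs out of finitely presented modules and filtered colimits
-/

set_option autoImplicit false
set_option linter.unusedSectionVars false
set_option linter.style.haveILetI false
set_option backward.isDefEq.respectTransparency false
set_option backward.isDefEq.respectTransparency.types false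

universe u

open CategoryTheory CategoryTheory.Limits Opposite GrothLib.SheafCoh

namespace GrothLib.HomColim25

variable {C : Type u} [SmallCategory C] {J : GrothendieckTopology C} {O : Sheaf J CommRingCat.{u}}

instance hasSheafHom' (N : ModSite.Mod O) : ModSite.HasSheafHom N := SheafCoh.hasSheafHom O N

theorem uncurry_conj {A F : ModSite.Mod O} (a : A ⟶ F) {P G : ModSite.Mod O}
    (k : P ⟶ (ModSite.sheafHom F).obj G) :
    ((ModSite.sheafHomAdj A).homEquiv P G).symm
        (k ≫ (conjugateEquiv (ModSite.sheafHomAdj F) (ModSite.sheafHomAdj A)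
          ((ModSite.tensorBi O).flip.map a)).app G) =
      ((ModSite.tensorBi O).flip.map a).app P ≫ ((ModSite.sheafHomAdj F).homEquiv P G).symm k := by
  rw [Adjunction.homEquiv_counit, Adjunction.homEquiv_counit, Functor.map_comp, Category.assoc]
  refine (congrArg (((ModSite.tensorBi O).flip.obj A).map k ≫ ·)
    (conjugateEquiv_counit (ModSite.sheafHomAdj F) (ModSite.sheafHomAdj A) _ G)).trans ?_
  rw [← Category.assoc, ← Category.assoc]
  exact congrArg (· ≫ _) (((ModSite.tensorBi O).flip.map a).naturality k)

/-- The internal hom, contravariant in the first variable. -/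
noncomputable def Hop : (ModSite.Mod O)ᵒᵖ ⥤ (ModSite.Mod O ⥤ ModSite.Mod O) where
  obj F := ModSite.sheafHom F.unop
  map {F A} a := conjugateEquiv (ModSite.sheafHomAdj F.unop) (ModSite.sheafHomAdj A.unop)
    ((ModSite.tensorBi O).flip.map a.unop)
  map_id F := by rw [unop_id, CategoryTheory.Functor.map_id, conjugateEquiv_id]
  map_comp {F A B} a b := by
    rw [conjugateEquiv_comp, ← Functor.map_comp, unop_comp]

/-- Maps into the internal hom, as a functor of the first variable. -/
noncomputable def coyonedaIso (P G : ModSite.Mod O) :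
    (Hop (O := O) ⋙ (evaluation _ _).obj G) ⋙ coyoneda.obj (op P) ≅
      ((ModSite.tensorBi O).obj P).op ⋙ yoneda.obj G :=
  NatIso.ofComponents (fun F => ((ModSite.sheafHomAdj F.unop).homEquiv P G).symm.toIso)
    (fun {F A} a => by
      ext k
      exact uncurry_conj a.unop k)

theorem preservesLimitsOfShape_Hop (K : Type) [SmallCategory K] :
    PreservesLimitsOfShape K (Hop (O := O)) := by
  refine preservesLimitsOfShape_of_evaluation _ _ fun G => ⟨fun {D} => ⟨fun {c} hc => ?_⟩⟩
  refine ⟨coyonedaJointlyReflectsLimits _ _ fun P => ?_⟩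
  haveI : PreservesColimitsOfShape Kᵒᵖ ((ModSite.tensorBi O).obj P.unop) := by
    haveI := ModFlat.preservesColimits_T (O := O) P.unop
    haveI : PreservesColimitsOfSize.{0, 0} (ModFlat.T P.unop) :=
      preservesColimitsOfSize_shrink.{0, u, 0, u} _
    exact preservesColimitsOfShape_of_natIso ((ModFlat.tensorSymm O).app P.unop).symm
  haveI : PreservesLimitsOfShape K (((ModSite.tensorBi O).obj P.unop).op) :=
    preservesLimitsOfShape_op _ _
  haveI : PreservesLimitsOfShape K ((Hop (O := O) ⋙ (evaluation _ _).obj G) ⋙ coyoneda.obj P) :=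
    preservesLimitsOfShape_of_natIso (coyonedaIso P.unop G).symm
  exact isLimitOfPreserves ((Hop (O := O) ⋙ (evaluation _ _).obj G) ⋙ coyoneda.obj P) hc

/-- `- ⊗ O` is the identity. -/
noncomputable def tensorUnitNatIso : (ModSite.tensorBi O).flip.obj (ModSite.unit O) ≅ 𝟭 _ :=
  haveI := isIso_counit_shfAdj O
  tensorBiIso O (ModSite.unit O) ≪≫
    Functor.isoWhiskerLeft (forgetP O) (Functor.isoWhiskerRight
      (MonoidalCategory.rightUnitorNatIso _) (shf O)) ≪≫
    Functor.isoWhiskerLeft (forgetP O) (Functor.leftUnitor _) ≪≫ asIso (shfAdj O).counit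

/-- `ℋom(O, -)` is the identity. -/
noncomputable def unitIso : ModSite.sheafHom (ModSite.unit O) ≅ 𝟭 (ModSite.Mod O) :=
  ((ModSite.sheafHomAdj (ModSite.unit O)).ofNatIsoLeft tensorUnitNatIso).rightAdjointUniq Adjunction.id

variable (Λ : Type u) [SmallCategory Λ]

/-- The class of modules whose internal hom preserves colimits of shape `Λ`. -/
def Nice (F : ModSite.Mod O) : Prop := PreservesColimitsOfShape Λ (ModSite.sheafHom F)

theorem nice_unit : Nice Λ (ModSite.unit O) := preservesColimitsOfShape_of_natIso unitIso.symm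

theorem Nice.of_iso {F F' : ModSite.Mod O} (h : Nice Λ F) (e : F ≅ F') : Nice Λ F' := by
  haveI : PreservesColimitsOfShape Λ (ModSite.sheafHom F) := h
  let i : ModSite.sheafHom F ≅ ModSite.sheafHom F' := (Hop (O := O)).mapIso (e.symm.op)
  exact preservesColimitsOfShape_of_natIso i

variable [IsFiltered Λ]

omit [IsFiltered Λ] in
/-- The comparison map as a natural transformation of functors of the functor. -/
noncomputable def postNat (D : Λ ⥤ ModSite.Mod O) :
    haveI := isGrothendieckAbelian_sheafOfModules (R := ModSite.ringSh O)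
    (Functor.whiskeringLeft Λ (ModSite.Mod O) (ModSite.Mod O)).obj D ⋙ colim ⟶
      (evaluation (ModSite.Mod O) (ModSite.Mod O)).obj (colimit D) where
  app R := colimit.post D R
  naturality {R R'} τ := colimit.hom_ext fun j => by simp

theorem nice_colimit {K : Type} [SmallCategory K] [FinCategory K] (F : K ⥤ ModSite.Mod O)
    (c : Cocone F) (hc : IsColimit c) (h : ∀ k, Nice Λ (F.obj k)) : Nice Λ c.pt := by
  haveI := isGrothendieckAbelian_sheafOfModules (R := ModSite.ringSh O)
  refine ⟨fun {D} => ?_⟩
  let W := (Functor.whiskeringLeft Λ (ModSite.Mod O) (ModSite.Mod O)).obj D ⋙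
    (colim : (Λ ⥤ ModSite.Mod O) ⥤ _)
  let V := (evaluation (ModSite.Mod O) (ModSite.Mod O)).obj (colimit D)
  haveI := preservesLimitsOfShape_Hop (O := O) Kᵒᵖ
  let hl := isLimitOfPreserves (Hop (O := O)) hc.op
  haveI : ∀ k, IsIso ((postNat Λ D).app ((F.op ⋙ Hop).obj k)) := fun k => by
    haveI : PreservesColimitsOfShape Λ (ModSite.sheafHom (F.obj k.unop)) := h k.unop
    change IsIso (colimit.post D (ModSite.sheafHom (F.obj k.unop)))
    infer_instance
  haveI : ∀ k, IsIso ((Functor.whiskerLeft (F.op ⋙ Hop) (postNat Λ D)).app k) := this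
  haveI : IsIso (Functor.whiskerLeft (F.op ⋙ Hop) (postNat Λ D)) := NatIso.isIso_of_isIso_app _
  let h1 := isLimitOfPreserves W hl
  let h2 := isLimitOfPreserves V hl
  haveI : IsIso ((postNat Λ D).app ((Hop (O := O)).obj (op c.pt))) := by
    have e : (postNat Λ D).app ((Hop (O := O)).obj (op c.pt)) =
        (IsLimit.conePointsIsoOfNatIso h1 h2
          (asIso (Functor.whiskerLeft (F.op ⋙ Hop) (postNat Λ D)))).hom := by
      refine h2.hom_ext fun k => ?_
      rw [IsLimit.conePointsIsoOfNatIso_hom_comp]
      exact ((postNat Λ D).naturality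
        (((Hop (O := O)).mapCone (Cocone.op ⟨c.pt, c.ι⟩)).π.app k)).symm
    rw [e]
    infer_instance
  haveI : IsIso (colimit.post D (ModSite.sheafHom c.pt)) := this
  exact preservesColimit_of_isIso_post _ _

theorem nice_cokernel {A B : ModSite.Mod O} (a : A ⟶ B) (hA : Nice Λ A) (hB : Nice Λ B) :
    Nice Λ (cokernel a) :=
  nice_colimit Λ (parallelPair a 0) (Cofork.ofπ (cokernel.π a) (by simp)) (cokernelIsCokernel a)
    fun k => by cases k <;> assumption

theorem nice_free (I : Type u) [Finite I] : Nice Λ (SheafOfModules.free (R := ModSite.ringSh O) I) := by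
  obtain ⟨n, ⟨e⟩⟩ := Finite.exists_equiv_fin I
  exact nice_colimit Λ
    ((Discrete.equivalence e.symm).functor ⋙ Discrete.functor fun _ : I => ModSite.unit O)
    (Cocone.whisker _ (SheafOfModules.freeCofan (R := ModSite.ringSh O) I))
    ((SheafOfModules.isColimitFreeCofan (R := ModSite.ringSh O) I).whiskerEquivalence
      (Discrete.equivalence e.symm))
    fun _ => nice_unit Λ

theorem nice_of_presentation {F : ModSite.Mod O}
    (p : SheafOfModules.Presentation (R := ModSite.ringSh O) F) [p.IsFinite] : Nice Λ F := by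
  have hI : Finite p.generators.I :=
    (SheafOfModules.Presentation.IsFinite.isFiniteType_generators (p := p)).finite
  have hI' : Finite p.relations.I :=
    (SheafOfModules.Presentation.IsFinite.isFiniteType_relations (p := p)).finite
  haveI := p.generators.epi
  haveI := p.relations.epi
  let T := ShortComplex.mk (p.relations.π ≫ kernel.ι p.generators.π) p.generators.π
    (by rw [Category.assoc, kernel.condition, comp_zero])
  have hT : T.Exact := by
    rw [T.exact_iff_epi_kernel_lift]
    have : kernel.lift T.g T.f T.zero = p.relations.π := by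
      rw [← cancel_mono (kernel.ι T.g), kernel.lift_ι]
    rw [this]
    infer_instance
  exact (nice_cokernel Λ T.f (nice_free Λ _) (nice_free Λ _)).of_iso Λ
    ((cokernelIsCokernel T.f).coconePointUniqueUpToIso hT.gIsCokernel)

end GrothLib.HomColim25
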