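import Groth.Agent.Lib.HomColim25.Basic
import Groth.Agent.Lib.SheafCoh.ModColim
import Groth.Agent.Lib.ModExtZero.KFlat
import Mathlib.CategoryTheory.Sites.CoversTop.Basic
import Mathlib.CategoryTheory.Sites.LocallyBijective
import Mathlib.CategoryTheory.Sites.Whiskering
import Mathlib.Algebra.Category.Grp.Limits
import Groth.Agent.Lib.CohTopos20.Ext
import Mathlib.CategoryTheory.Sites.Limits
import Mathlib.CategoryTheory.Sites.CoverPreserving
import Mathlib.CategoryTheory.Sites.CoverLifting

/-!
# Localising the preservation of colimits by internal homs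
-/

set_option autoImplicit false
set_option linter.unusedSectionVars false
set_option linter.style.haveILetI false
set_option backward.isDefEq.respectTransparency false
set_option backward.isDefEq.respectTransparency.types false

universe u

open CategoryTheory CategoryTheory.Limits Opposite GrothLib.SheafCoh

namespace GrothLib.HomColim25

variable {C : Type u} [SmallCategory C] {J : GrothendieckTopology C} (O : Sheaf J CommRingCat.{u})

theorem preservesColimits_restr (U : C) : PreservesColimitsOfSize.{u, u} (ModSite.restr O U) := by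
  haveI := SheafCoh.preservesColimitsOfSize_toSheaf.{u} (ModSite.ringSh O)
  haveI := SheafCoh.preservesColimitsOfSize_toSheaf.{u} (ModSite.ringSh (O.over U))
  haveI : ((Over.forget U).sheafPushforwardContinuous AddCommGrpCat.{u} (J.over U) J).IsLeftAdjoint :=
    ((Over.forget U).sheafAdjunctionCocontinuous AddCommGrpCat.{u} (J.over U) J).isLeftAdjoint
  haveI : PreservesColimitsOfSize.{u, u}
      (ModSite.restr O U ⋙ SheafOfModules.toSheaf (ModSite.ringSh (O.over U))) :=
    inferInstanceAs (PreservesColimitsOfSize.{u, u} (SheafOfModules.toSheaf (ModSite.ringSh O) ⋙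
      (Over.forget U).sheafPushforwardContinuous AddCommGrpCat.{u} (J.over U) J))
  haveI : ReflectsColimitsOfSize.{u, u} (SheafOfModules.toSheaf (ModSite.ringSh (O.over U))) := by
    haveI := isGrothendieckAbelian_sheafOfModules (R := ModSite.ringSh (O.over U))
    exact reflectsColimits_of_reflectsIsomorphisms
  exact preservesColimits_of_reflects_of_preserves _ (SheafOfModules.toSheaf (ModSite.ringSh (O.over U)))

/-- Restriction commutes with the internal hom, naturally in the second variable. -/
noncomputable def restrHomIso (U : C) (F : ModSite.Mod O) :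
    ModSite.sheafHom F ⋙ ModSite.restr O U ≅
      ModSite.restr O U ⋙ ModSite.sheafHom ((ModSite.restr O U).obj F) :=
  let e : (ModSite.extZero O U ⋙ (ModSite.tensorBi O).flip.obj F) ≅
      (ModSite.tensorBi (O.over U)).flip.obj ((ModSite.restr O U).obj F) ⋙ ModSite.extZero O U :=
    NatIso.ofComponents (fun P => (GrothLib.ModExtZero.projIso O U P F).symm) (fun {P P'} a => by
      dsimp only [Functor.comp_map, Iso.symm_hom]
      rw [Iso.comp_inv_eq, Category.assoc, Iso.eq_inv_comp]
      exact (GrothLib.ModExtZero.projIso_natural_left a F).symm)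
  (((ModSite.extZeroAdj O U).comp (ModSite.sheafHomAdj F)).ofNatIsoLeft e).rightAdjointUniq
    ((ModSite.sheafHomAdj ((ModSite.restr O U).obj F)).comp (ModSite.extZeroAdj O U))

variable {O}

theorem isIso_of_restr {ι : Type*} {X : ι → C} (hX : J.CoversTop X) {M N : ModSite.Mod O} (ψ : M ⟶ N)
    (h : ∀ i, IsIso ((ModSite.restr O (X i)).map ψ)) : IsIso ψ := by
  let ψ' := (SheafOfModules.toSheaf (ModSite.ringSh O)).map ψ
  have hb : ∀ ⦃W : C⦄ (i : ι) (_ : W ⟶ X i), Function.Bijective (ψ'.hom.app (op W)) := fun W i g => by
    haveI := h i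
    let φ := ((SheafOfModules.toSheaf (ModSite.ringSh (O.over (X i)))).map ((ModSite.restr O (X i)).map ψ)).hom
    haveI : IsIso φ := inferInstanceAs (IsIso ((sheafToPresheaf _ _).map
      ((SheafOfModules.toSheaf (ModSite.ringSh (O.over (X i)))).map ((ModSite.restr O (X i)).map ψ))))
    exact ConcreteCategory.bijective_of_isIso (φ.app (op (Over.mk g)))
  haveI : Sheaf.IsLocallyInjective ψ' := ⟨fun {W} x y hxy => by
    refine J.superset_covering ?_ (hX W.unop)
    rintro V f ⟨i, ⟨g⟩⟩
    refine (hb i g).1 ?_
    rw [NatTrans.naturality_apply, NatTrans.naturality_apply, hxy]⟩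
  haveI : Sheaf.IsLocallySurjective ψ' := ⟨fun {W} s => by
    refine J.superset_covering ?_ (hX W)
    rintro V f ⟨i, ⟨g⟩⟩
    exact (hb i g).2 _⟩
  haveI : IsIso ψ' := (Sheaf.isLocallyBijective_iff_isIso ψ').1 ⟨inferInstance, inferInstance⟩
  exact isIso_of_reflects_iso ψ (SheafOfModules.toSheaf (ModSite.ringSh O))

theorem nice_of_isFinitePresentation (Λ : Type u) [SmallCategory Λ] [IsFiltered Λ] (F : ModSite.Mod O)
    [SheafOfModules.IsFinitePresentation (R := ModSite.ringSh O) F] : Nice Λ F := by
  haveI := isGrothendieckAbelian_sheafOfModules (R := ModSite.ringSh O)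
  obtain ⟨σ, hσ⟩ := SheafOfModules.IsFinitePresentation.exists_quasicoherentData (R := ModSite.ringSh O) F
  refine ⟨fun {D} => ?_⟩
  haveI : IsIso (colimit.post D (ModSite.sheafHom F)) := isIso_of_restr σ.coversTop _ fun i => by
    haveI := isGrothendieckAbelian_sheafOfModules (R := ModSite.ringSh (O.over (σ.X i)))
    haveI := preservesColimits_restr O (σ.X i)
    haveI : PreservesColimitsOfShape Λ (ModSite.sheafHom ((ModSite.restr O (σ.X i)).obj F)) :=
      @nice_of_presentation _ _ _ (O.over (σ.X i)) Λ _ _ _ (σ.presentation i) (hσ.isFinite_presentation i)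
    haveI : PreservesColimitsOfShape Λ (ModSite.sheafHom F ⋙ ModSite.restr O (σ.X i)) :=
      preservesColimitsOfShape_of_natIso (restrHomIso O (σ.X i) F).symm
    have e := colimit.post_post D (ModSite.sheafHom F) (ModSite.restr O (σ.X i))
    haveI : IsIso (colimit.post (D ⋙ ModSite.sheafHom F) (ModSite.restr O (σ.X i)) ≫
        (ModSite.restr O (σ.X i)).map (colimit.post D (ModSite.sheafHom F))) := by
      rw [e]; exact inferInstanceAs (IsIso (colimit.post D (ModSite.sheafHom F ⋙ ModSite.restr O (σ.X i))))
    exact IsIso.of_isIso_comp_left (colimit.post (D ⋙ ModSite.sheafHom F) (ModSite.restr O (σ.X i))) _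
  exact preservesColimit_of_isIso_post _ _

end GrothLib.HomColim25
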