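import Groth.Agent.Lib.HomColim25.Local
import Groth.Agent.Lib.CohClass25.Obj
import Groth.Agent.Lib.ModSupp25.HomIso

/-!
# Maps out of finitely presented modules and filtered colimits
-/

set_option autoImplicit false
set_option linter.unusedSectionVars false
set_option linter.style.haveILetI false
set_option backward.isDefEq.respectTransparency false
set_option backward.isDefEq.respectTransparency.types false

universe u

open CategoryTheory CategoryTheory.Limits Opposite ToposFin

namespace GrothLib.HomColim25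

variable {C : Type u} [SmallCategory C] {J : GrothendieckTopology C}

theorem preservesColimitsOfShape_globalSections (S : Set (Sh J))
    (hSa : ∀ F : Sh J, Epi (terminal.from F) → ∃ K ∈ S, Epi (terminal.from K) ∧ Nonempty (K ⟶ F))
    (hSb : ∀ K ∈ S, CohCx.IsQcObject (K ⨯ K)) (Λ : Type u) [SmallCategory Λ] [IsFiltered Λ] :
    PreservesColimitsOfShape Λ (coyoneda.obj (op (⊤_ (Sh J)))) := by
  have hKK : ∀ K ∈ S, IsQC (K ⨯ K) := fun K hK => CohClass25.isQC_of_isQcObject (hSb K hK)
  have hK : ∀ K ∈ S, IsQC K := fun K hK => by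
    haveI : IsSplitEpi (prod.fst : K ⨯ K ⟶ K) := IsSplitEpi.mk' ⟨prod.lift (𝟙 K) (𝟙 K), prod.lift_fst _ _⟩
    exact Topos.QC.isQC_of_epi (prod.fst : K ⨯ K ⟶ K) (hKK K hK)
  haveI : Epi (terminal.from (⊤_ (Sh J))) := by
    rw [Subsingleton.elim (terminal.from (⊤_ (Sh J))) (𝟙 _)]; infer_instance
  obtain ⟨K₀, hK₀, hep₀, -⟩ := hSa (⊤_ (Sh J)) inferInstance
  have hT : IsQC (⊤_ (Sh J)) := Topos.QC.isQC_of_epi (terminal.from K₀) (hK K₀ hK₀)
  refine ⟨fun {D} => ?_⟩
  haveI : IsIso (colimit.post D (coyoneda.obj (op (⊤_ (Sh J))))) := by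
    rw [isIso_iff_bijective]
    refine ⟨(Topos.QC.post_injective_iff _).2 fun i x y h =>
      Topos.QC.exists_eq_of_isQC hT (colimit.isColimit D) x y h, (Topos.QC.post_surjective_iff _).2 fun z => ?_⟩
    obtain ⟨m, hm⟩ := CohClass25.exists_epi_stage D hT (colimit.isColimit D) z
    let Q := pullback ((colimit.cocone D).ι.app m) z
    haveI : Epi (terminal.from Q) := by
      rw [Subsingleton.elim (terminal.from Q) (pullback.snd ((colimit.cocone D).ι.app m) z)]; exact hm
    obtain ⟨K, hKS, hKe, ⟨k⟩⟩ := hSa Q inferInstance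
    let g : K ⟶ ⊤_ (Sh J) := k ≫ pullback.snd ((colimit.cocone D).ι.app m) z
    haveI : Epi g := by rw [Subsingleton.elim g (terminal.from K)]; exact hKe
    let x : K ⟶ D.obj m := k ≫ pullback.fst ((colimit.cocone D).ι.app m) z
    have hx : x ≫ colimit.ι D m = g ≫ z := by
      simp only [x, g, Category.assoc, ← pullback.condition]
      rfl
    have hqc : IsQC (pullback g g) := by
      let l : K ⨯ K ⟶ pullback g g := pullback.lift prod.fst prod.snd (Subsingleton.elim _ _)
      haveI : IsSplitEpi l := IsSplitEpi.mk' ⟨prod.lift (pullback.fst g g) (pullback.snd g g),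
        pullback.hom_ext
          (by rw [Category.assoc, pullback.lift_fst, prod.lift_fst, Category.id_comp])
          (by rw [Category.assoc, pullback.lift_snd, prod.lift_snd, Category.id_comp])⟩
      exact Topos.QC.isQC_of_epi l (hKK K hKS)
    obtain ⟨j, a, ha⟩ := Topos.QC.exists_eq_of_isQC hqc (colimit.isColimit D)
      (pullback.fst g g ≫ x) (pullback.snd g g ≫ x) (by
        change (pullback.fst g g ≫ x) ≫ colimit.ι D m = (pullback.snd g g ≫ x) ≫ colimit.ι D m
        simp only [Category.assoc, hx, pullback.condition_assoc])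
    obtain ⟨y, hy⟩ := Topos.QC.fam_glue (Topos.QC.fam_single.{u} g) (fun _ => x ≫ D.map a) fun _ _ =>
      ⟨PUnit.{u + 1}, fun _ => _, fun _ => 𝟙 _, Topos.QC.fam_single.{u} (𝟙 _), fun _ => by simpa using ha⟩
    refine ⟨j, y, (cancel_epi g).1 ?_⟩
    rw [← Category.assoc, hy PUnit.unit, Category.assoc, colimit.w, hx]
  exact preservesColimit_of_isIso_post _ _

variable (J) in
/-- The sheaf with one section everywhere. -/
def pt : Sh J :=
  ⟨(Functor.const Cᵒᵖ).obj PUnit.{u + 1}, by
    rw [isSheaf_iff_isSheaf_of_type]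
    intro U S _ x _
    exact ⟨PUnit.unit, fun _ _ _ => rfl, fun _ _ => rfl⟩⟩

/-- It is terminal. -/
def isTerminalPt : IsTerminal (pt J) :=
  IsTerminal.ofUniqueHom (fun _ => ⟨{ app := fun _ => ↾fun _ => PUnit.unit }⟩) fun _ _ => by
    ext; rfl

/-- Global sections as maps out of the terminal sheaf. -/
def sectionsEquiv (F : Sh J) : F.obj.sections ≃ (pt J ⟶ F) where
  toFun s := ⟨{ app := fun X => ↾fun _ => s.1 X
                naturality := fun X Y f => by ext; exact (s.2 f).symm }⟩
  invFun φ := ⟨fun X => φ.hom.app X PUnit.unit, fun {X Y} f =>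
    (NatTrans.naturality_apply φ.hom f PUnit.unit).symm⟩
  left_inv _ := rfl
  right_inv φ := by ext; rfl

variable {O : Sheaf J CommRingCat.{u}}

theorem preservesColimitsOfShape_coyoneda_of_isFinitePresentation (S : Set (Sh J))
    (hSa : ∀ F : Sh J, Epi (terminal.from F) → ∃ K ∈ S, Epi (terminal.from K) ∧ Nonempty (K ⟶ F))
    (hSb : ∀ K ∈ S, CohCx.IsQcObject (K ⨯ K)) (F : ModSite.Mod O)
    [SheafOfModules.IsFinitePresentation (R := ModSite.ringSh O) F]
    (Λ : Type u) [SmallCategory Λ] [IsFiltered Λ] :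
    PreservesColimitsOfShape Λ (coyoneda.obj (op F)) := by
  haveI := preservesColimitsOfShape_globalSections S hSa hSb Λ
  haveI := SheafCoh.preservesColimitsOfSize_toSheaf.{u} (ModSite.ringSh O)
  haveI : PreservesColimitsOfShape Λ (ModSite.sheafHom F) := nice_of_isFinitePresentation Λ F
  haveI : PreservesColimitsOfShape Λ (coyoneda.obj (op (pt J))) :=
    preservesColimitsOfShape_of_natIso
      (coyoneda.mapIso ((isTerminalPt (J := J)).uniqueUpToIso terminalIsTerminal).op)
  let i : coyoneda.obj (op (ModSite.unit O)) ≅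
      SheafOfModules.toSheaf (ModSite.ringSh O) ⋙ CohTopos20.und J ⋙ coyoneda.obj (op (pt J)) :=
    NatIso.ofComponents (fun G =>
      ((G.unitHomEquiv).trans (sectionsEquiv
        ((CohTopos20.und J).obj ((SheafOfModules.toSheaf (ModSite.ringSh O)).obj G)))).toIso)
      fun {G G'} f => by ext φ; rfl
  haveI : PreservesColimitsOfShape Λ (coyoneda.obj (op (ModSite.unit O))) :=
    preservesColimitsOfShape_of_natIso i.symm
  let e : ModSite.sheafHom F ⋙ coyoneda.obj (op (ModSite.unit O)) ≅ coyoneda.obj (op F) :=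
    Functor.isoWhiskerRight (ModSupp25.unitHomIso O F) (forget AddCommGrpCat.{u})
  exact preservesColimitsOfShape_of_natIso e

end GrothLib.HomColim25
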