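import Groth.Agent.Lib.HomColim25.Global
import Groth.Agent.Lib.Topos.QCSite
import Mathlib.Topology.Sheaves.SheafCondition.Sites

/-!
# Filtered colimits and maps out of finitely presented modules on a space
-/

set_option autoImplicit false
set_option linter.unusedSectionVars false
set_option linter.style.haveILetI false
set_option backward.isDefEq.respectTransparency false
set_option backward.isDefEq.respectTransparency.types false

universe u

open CategoryTheory CategoryTheory.Limits Opposite ToposFin TopologicalSpace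

namespace GrothLib.HomColim25

theorem isQcObject_of_isQC {C : Type u} [SmallCategory C] {J : GrothendieckTopology C} {K : Sh J}
    (h : IsQC K) : CohCx.IsQcObject K := by
  intro ι F π hπ
  have hπ' : Topos.QC.Fam π := by
    rw [Topos.QC.Fam, Topos.isEpiFamily_iff_liftSieve_mem]
    intro U s
    obtain ⟨T, hT, hT'⟩ := hπ U s
    exact J.superset_covering (fun V f hf => hT' V f hf) hT
  obtain ⟨t, ht⟩ := Topos.QC.IsQC.exists_finset h hπ'
  rw [Topos.QC.Fam, Topos.isEpiFamily_iff_liftSieve_mem] at ht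
  exact ⟨t, fun U s => ⟨_, ht U s, fun V f hf => hf⟩⟩

variable {X : TopCat.{u}}

theorem isQCSite_of_isCompact {W : Opens X} (h : IsCompact (W : Set X)) :
    IsQCSite (Opens.grothendieckTopology X) W := by
  intro S hS
  choose V g hg hxV using fun x : W => hS x.1 x.2
  obtain ⟨t, ht⟩ := h.elim_finite_subcover (fun x : W => (V x : Set X)) (fun x => (V x).2)
    fun x hx => Set.mem_iUnion.2 ⟨⟨x, hx⟩, hxV _⟩
  let e := (Fintype.equivFin t).symm
  refine ⟨Fintype.card t, fun k => V (e k).1, fun k => g (e k).1, fun k => hg _, fun x hx => ?_⟩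
  obtain ⟨y, hy, hxy⟩ := Set.mem_iUnion₂.1 (ht hx)
  refine ⟨V (e (e.symm ⟨y, hy⟩)).1, g (e (e.symm ⟨y, hy⟩)).1,
    Sieve.ofArrows_mk (fun k => V (e k).1) (fun k => g (e k).1) (e.symm ⟨y, hy⟩), ?_⟩
  rw [Equiv.apply_symm_apply]
  exact hxy

/-- The sheaf represented by the whole space is terminal. -/
noncomputable def isTerminalEpsTop : IsTerminal (eps (Opens.grothendieckTopology X) (⊤ : Opens X)) :=
  IsTerminal.isTerminalObj (yoneda ⋙ presheafToSheaf (Opens.grothendieckTopology X) (Type u)) _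
    isTerminalTop

/-- Coproducts of opens covering the space with compact pairwise intersections. -/
def qsCovers (X : TopCat.{u}) : Set (Sh (Opens.grothendieckTopology X)) :=
  {K | ∃ (ι : Type u) (_ : Finite ι) (U : ι → Opens X), iSup U = ⊤ ∧
    (∀ i j, IsCompact ((U i ⊓ U j : Opens X) : Set X)) ∧
    K = ∐ fun i => eps (Opens.grothendieckTopology X) (U i)}

theorem isQcObject_prod {K : Sh (Opens.grothendieckTopology X)} (hK : K ∈ qsCovers X) :
    CohCx.IsQcObject (K ⨯ K) := by
  obtain ⟨ι, _, U, hU, hc, rfl⟩ := hK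
  let J := Opens.grothendieckTopology X
  let K := ∐ fun i => eps J (U i)
  let s : K ⟶ eps J (⊤ : Opens X) := isTerminalEpsTop.from K
  have hcol := Topos.QC.fam_cofan (coproductIsCoproduct fun i => eps J (U i))
  have hcov := Topos.QC.fam_comp (Topos.QC.fam_pullback hcol (pullback.fst s s))
    (fun i => Topos.QC.fam_pullback hcol
      (pullback.snd (Sigma.ι (fun i => eps J (U i)) i) (pullback.fst s s) ≫ pullback.snd s s))
  have hP : IsQC (pullback s s) := by
    refine Topos.QC.isQC_of_finite_cover hcov fun ⟨i, j⟩ => ?_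
    let k : U i ⟶ ⊤ := homOfLE le_top
    let l : U j ⟶ ⊤ := homOfLE le_top
    let a := Sigma.ι (fun i => eps J (U i)) i
    let b := Sigma.ι (fun i => eps J (U i)) j
    have sq := Topos.QC.isPullback_repMap (J := J) k l
    rw [isTerminalEpsTop.hom_ext (Topos.repMap J k) (a ≫ s),
      isTerminalEpsTop.hom_ext (Topos.repMap J l) (b ≫ s)] at sq
    have sq₁ : IsPullback (pullback.fst a (pullback.fst s s))
        (pullback.snd a (pullback.fst s s) ≫ pullback.snd s s) (a ≫ s) s :=
      (IsPullback.of_hasPullback a (pullback.fst s s)).paste_vert (IsPullback.of_hasPullback s s)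
    have sq₂ := ((IsPullback.of_hasPullback b
      (pullback.snd a (pullback.fst s s) ≫ pullback.snd s s)).flip.paste_horiz sq₁)
    have hW : pullback k l = U i ⊓ U j :=
      le_antisymm (le_inf (leOfHom (pullback.fst k l)) (leOfHom (pullback.snd k l)))
        (leOfHom (pullback.lift (homOfLE inf_le_left) (homOfLE inf_le_right) (Subsingleton.elim _ _)))
    exact Topos.QC.isQC_of_iso (sq.isoPullback ≪≫ sq₂.isoPullback.symm)
      ((Topos.QC.isQCSite_iff_isQC_eps _).1 (isQCSite_of_isCompact (by rw [hW]; exact hc i j)))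
  let p : pullback s s ⟶ K ⨯ K := prod.lift (pullback.fst s s) (pullback.snd s s)
  haveI : IsSplitEpi p := IsSplitEpi.mk' ⟨pullback.lift prod.fst prod.snd (isTerminalEpsTop.hom_ext _ _),
    prod.hom_ext
      (by rw [Category.assoc, prod.lift_fst, pullback.lift_fst, Category.id_comp])
      (by rw [Category.assoc, prod.lift_snd, pullback.lift_snd, Category.id_comp])⟩
  exact isQcObject_of_isQC (Topos.QC.isQC_of_epi p hP)

theorem exists_mem_qsCovers
    (hX : ∀ (ι : Type u) (V : ι → Opens X), iSup V = ⊤ →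
      ∃ (J : Type u) (_ : Finite J) (U : J → Opens X), iSup U = ⊤ ∧ (∀ j, ∃ i, U j ≤ V i) ∧
        ∀ j j', IsCompact ((U j ⊓ U j' : Opens X) : Set X))
    (F : Sh (Opens.grothendieckTopology X)) (hF : Epi (terminal.from F)) :
    ∃ K ∈ qsCovers X, Epi (terminal.from K) ∧ Nonempty (K ⟶ F) := by
  let J := Opens.grothendieckTopology X
  have hfam := (Topos.QC.fam_single.{u} (terminal.from F))
  rw [Topos.QC.Fam, Topos.isEpiFamily_iff_liftSieve_mem] at hfam
  have hloc : ∀ x : X, ∃ (V : Opens X), x ∈ V ∧ Nonempty (F.obj.obj (op V)) := fun x => by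
    obtain ⟨W, f, hf, hxW⟩ := hfam (⊤ : Opens X)
      (Topos.secEquiv (⊤ : Opens X) (⊤_ (Sh J)) (terminal.from _)) x trivial
    obtain ⟨_, t, _⟩ := hf
    exact ⟨W, hxW, ⟨t⟩⟩
  choose V hxV hV using hloc
  obtain ⟨ι, hι, U, hU, hUV, hc⟩ := hX X V
    (top_le_iff.1 fun x _ => Opens.mem_iSup.2 ⟨x, hxV x⟩)
  choose i hi using hUV
  refine ⟨∐ fun j => eps J (U j), ⟨ι, hι, U, hU, hc, rfl⟩, ⟨fun {Z} a b hab => ?_⟩,
    ⟨Sigma.desc fun j => (Topos.secEquiv (U j) F).symm (F.obj.map (homOfLE (hi j)).op (hV (i j)).some)⟩⟩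
  let k : ∀ j, U j ⟶ (⊤ : Opens X) := fun _ => homOfLE le_top
  have hcov : Sieve.ofArrows U k ∈ J (⊤ : Opens X) := fun x _ => by
    obtain ⟨j, hj⟩ := Opens.mem_iSup.1 (hU.ge (trivial : x ∈ (⊤ : Opens X)))
    exact ⟨U j, k j, Sieve.ofArrows_mk U k j, hj⟩
  let t : eps J (⊤ : Opens X) ⟶ ⊤_ (Sh J) := terminal.from _
  haveI : IsSplitEpi t := IsSplitEpi.mk' ⟨isTerminalEpsTop.from _, Subsingleton.elim _ _⟩
  refine (cancel_epi t).1 (Topos.QC.fam_repMap hcov _ _ _ ?_)
  rintro ⟨W, f, hf⟩
  obtain ⟨_, r, _, ⟨j⟩, rfl⟩ := hf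
  have e : Topos.repMap J (r ≫ k j) ≫ t =
      (Topos.repMap J r ≫ Sigma.ι (fun j => eps J (U j)) j) ≫ terminal.from _ := Subsingleton.elim _ _
  rw [← Category.assoc, ← Category.assoc, e, Category.assoc, Category.assoc, Category.assoc, Category.assoc,
    hab]

end GrothLib.HomColim25
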